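import Cfsg.Agent.OddOrderCharacters.PF4b.CohExt
import Cfsg.Agent.OddOrderCharacters.SystemRestrict
import Cfsg.Agent.OddOrderCharacters.PF12.Const
import Cfsg.Agent.S1517
set_option linter.all false

/-!
# Peterfalvi (5.5) and (5.7), exported forms

* `coherent_sum_subset`: under a coherence system `(S, τ, R)`, a coherent isometry `ν` on a subset
  `S'` of `S` closed under conjugation maps every `χ ∈ S'` to the sum of a subset of `R χ`.
* `coherent_of_degree`: a subset of `S` of constant degree closed under conjugation is coherent.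
* `prDade_coherent_of_degree`: the latter under the prime Dade hypothesis.
-/

set_option autoImplicit false

open scoped ComplexConjugate
open Cfsg Cfsg.Agent.Characters.Core Cfsg.Agent.OddOrderCharacters.PFDefs

namespace Cfsg.Agent.OddOrderCharacters.PF4b.CohExt2

section system

variable {L : Type*} [Group L] [Fintype L] {G : Type*} [Group G] [Fintype G]
  {S S' : Set (L → ℂ)} {τ ν : (L → ℂ) → (G → ℂ)} {R : (L → ℂ) → Finset (G → ℂ)}

/-- (5.5): the image of `χ` is the sum of a subset of `R χ`, and the coefficients are `0` or `1`. -/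
theorem coherent_sum_subset (hS : IsCoherenceSystem S τ R) (hS' : S' ⊆ S)
    (hconj : ∀ χ ∈ S', conjFun χ ∈ S') (hν : IsLinearIsometryOn (zspan S') ν)
    (hext : ∀ α ∈ zspanOn S' {1}ᶜ, ν α = τ α) {χ : L → ℂ} (hχ : χ ∈ S') :
    ∃ E ⊆ R χ, ν χ = ∑ α ∈ E, α ∧ (∀ α ∈ R χ, α ∈ E ↔ classInner (ν χ) α = 1) ∧
      (∀ α ∈ R χ, α ∉ E ↔ classInner (ν χ) α = 0) ∧ (E.card : ℂ) = classInner χ χ := by
  classical
  have hχS := hS' hχ
  have hgen : IsGeneralizedCharacter G (ν χ) :=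
    CoherenceBasic.isom_gen hν (CoherenceBasic.mem_zspan hχ)
  have hint : ∀ α ∈ R χ, ∃ n : ℤ, classInner (ν χ) α = n := fun α hα =>
    CoherenceBasic.gen_inner_int hgen (hS.virtual χ hχS α hα)
  choose! c hc using hint
  have hproj := PF12.Const.nu_eq_proj hS hS' hconj hν hext hχ
  have hperp : classInner χ (conjFun χ) = 0 :=
    hS.orthogonal χ hχS _ (hS.conj_mem χ hχS) (hS.conj_ne χ hχS).symm
  have hsum : ∑ α ∈ R χ, (c α : ℂ) = classInner χ χ := by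
    have h1 : classInner (ν χ) (τ (χ - conjFun χ)) = classInner χ χ := by
      have h2 := SystemRestrict.sub_conjFun_mem hS hS' hχ (hconj χ hχ)
      rw [← hext _ h2.1, CoherenceBasic.isom_inner hν (CoherenceBasic.mem_zspan hχ) h2.1.1,
        classInner_sub_right, hperp, sub_zero]
    rw [← h1, hS.sum_eq χ hχS, classInner_sum_right]
    exact Finset.sum_congr rfl fun α hα => (hc α hα).symm
  have hnorm : classInner (ν χ) (ν χ) = classInner χ χ :=
    CoherenceBasic.isom_inner hν (CoherenceBasic.mem_zspan hχ) (CoherenceBasic.mem_zspan hχ)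
  have hsq : ∑ α ∈ R χ, (c α : ℂ) ^ 2 = classInner χ χ := by
    rw [← hnorm]
    conv_rhs => rw [hproj, classInner_sum_left]
    refine Finset.sum_congr rfl fun α hα => ?_
    rw [classInner_smul_left, ← hproj, ← classInner_conj_symm (ν χ) α, hc α hα,
      map_intCast, sq]
  have h01 : ∀ α ∈ R χ, c α = 0 ∨ c α = 1 := by
    have h1 : ∑ α ∈ R χ, ((c α) ^ 2 - c α) = 0 := by
      have : ((∑ α ∈ R χ, ((c α) ^ 2 - c α) : ℤ) : ℂ) = 0 := by
        push_cast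
        rw [Finset.sum_sub_distrib, hsq, hsum, sub_self]
      exact_mod_cast this
    have h2 := (Finset.sum_eq_zero_iff_of_nonneg (fun α _ => by
      nlinarith [Int.le_self_sq (c α)])).1 h1
    intro α hα
    have h3 := h2 α hα
    have h4 : c α * (c α - 1) = 0 := by linarith [sq (c α), h3, mul_sub (c α) (c α) 1]
    rcases mul_eq_zero.1 h4 with h | h
    · exact Or.inl h
    · exact Or.inr (by linarith)
  have hE : ∀ α ∈ R χ, α ∈ (R χ).filter (fun α => c α = 1) ↔ classInner (ν χ) α = 1 := by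
    intro α hα
    rw [Finset.mem_filter, hc α hα]
    constructor
    · rintro ⟨-, h⟩; rw [h]; simp
    · intro h; exact ⟨hα, by exact_mod_cast h⟩
  have hE0 : ∀ α ∈ R χ, α ∉ (R χ).filter (fun α => c α = 1) ↔ classInner (ν χ) α = 0 := by
    intro α hα
    rw [hE α hα, hc α hα]
    rcases h01 α hα with h | h <;> simp [h]
  refine ⟨(R χ).filter (fun α => c α = 1), Finset.filter_subset _ _, ?_, hE, hE0, ?_⟩
  · conv_lhs => rw [hproj]
    rw [Finset.sum_filter]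
    refine Finset.sum_congr rfl fun α hα => ?_
    rcases h01 α hα with h | h
    · rw [hc α hα, h]; simp
    · rw [hc α hα, h]; simp
  · rw [← hsum, Finset.card_filter]
    push_cast
    refine Finset.sum_congr rfl fun α hα => ?_
    rcases h01 α hα with h | h <;> simp [h]

/-- (5.7): a nonempty subset of constant degree, closed under conjugation, is coherent. -/
theorem coherent_of_degree (hS : IsCoherenceSystem S τ R) (hS' : S' ⊆ S) (hne : S'.Nonempty)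
    (hconj : ∀ χ ∈ S', conjFun χ ∈ S') (hdeg : ∀ φ ∈ S', ∀ ψ ∈ S', φ 1 = ψ 1) :
    IsCoherent S' {1}ᶜ τ :=
  S1517.result S' τ R (SystemRestrict.isCoherenceSystem_subset hS hS' hne hconj) hdeg

/-- The images under coherent isometries of members of disjoint conjugation-closed subsets are
orthogonal. -/
theorem coherent_ortho_mem (hS : IsCoherenceSystem S τ R) {S₁ S₂ : Set (L → ℂ)} (h1 : S₁ ⊆ S)
    (h2 : S₂ ⊆ S) (hc1 : ∀ χ ∈ S₁, conjFun χ ∈ S₁) (hc2 : ∀ χ ∈ S₂, conjFun χ ∈ S₂)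
    (hdisj : Disjoint S₁ S₂) {ν₁ ν₂ : (L → ℂ) → (G → ℂ)}
    (hν₁ : IsLinearIsometryOn (zspan S₁) ν₁) (hν₂ : IsLinearIsometryOn (zspan S₂) ν₂)
    (he1 : ∀ α ∈ zspanOn S₁ {1}ᶜ, ν₁ α = τ α) (he2 : ∀ α ∈ zspanOn S₂ {1}ᶜ, ν₂ α = τ α)
    {χ φ : L → ℂ} (hχ : χ ∈ S₁) (hφ : φ ∈ S₂) : classInner (ν₁ χ) (ν₂ φ) = 0 := by
  obtain ⟨E, hE, hEs, -⟩ := coherent_sum_subset hS h1 hc1 hν₁ he1 hχ
  obtain ⟨F, hF, hFs, -⟩ := coherent_sum_subset hS h2 hc2 hν₂ he2 hφ
  have hne : χ ≠ φ := fun h => Set.disjoint_left.1 hdisj hχ (h ▸ hφ)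
  have hne' : χ ≠ conjFun φ := fun h => Set.disjoint_left.1 hdisj hχ (h ▸ hc2 φ hφ)
  rw [hEs, hFs, classInner_sum_left]
  refine Finset.sum_eq_zero fun α hα => ?_
  rw [classInner_sum_right]
  refine Finset.sum_eq_zero fun β hβ => ?_
  exact hS.disjoint φ (h2 hφ) χ (h1 hχ) (hS.orthogonal χ (h1 hχ) φ (h2 hφ) hne)
    (hS.orthogonal χ (h1 hχ) _ (h2 (hc2 φ hφ)) hne') α (hE hα) β (hF hβ)

/-- The same for integer combinations. -/
theorem coherent_ortho (hS : IsCoherenceSystem S τ R) {S₁ S₂ : Set (L → ℂ)} (h1 : S₁ ⊆ S)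
    (h2 : S₂ ⊆ S) (hc1 : ∀ χ ∈ S₁, conjFun χ ∈ S₁) (hc2 : ∀ χ ∈ S₂, conjFun χ ∈ S₂)
    (hdisj : Disjoint S₁ S₂) {ν₁ ν₂ : (L → ℂ) → (G → ℂ)}
    (hν₁ : IsLinearIsometryOn (zspan S₁) ν₁) (hν₂ : IsLinearIsometryOn (zspan S₂) ν₂)
    (he1 : ∀ α ∈ zspanOn S₁ {1}ᶜ, ν₁ α = τ α) (he2 : ∀ α ∈ zspanOn S₂ {1}ᶜ, ν₂ α = τ α)
    {a b : L → ℂ} (ha : a ∈ zspan S₁) (hb : b ∈ zspan S₂) : classInner (ν₁ a) (ν₂ b) = 0 := by
  have key : ∀ χ ∈ S₁, ∀ b ∈ zspan S₂, classInner (ν₁ χ) (ν₂ b) = 0 := by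
    intro χ hχ b hb
    have : b ∈ zspan S₂ ∧ classInner (ν₁ χ) (ν₂ b) = 0 := by
      refine CoherenceBasic.zspan_induction
        (p := fun b => b ∈ zspan S₂ ∧ classInner (ν₁ χ) (ν₂ b) = 0) ?_ ?_ ?_ ?_ hb
      · exact fun φ hφ => ⟨CoherenceBasic.mem_zspan hφ,
          coherent_ortho_mem hS h1 h2 hc1 hc2 hdisj hν₁ hν₂ he1 he2 hχ hφ⟩
      · refine ⟨CoherenceBasic.zspan_zero, ?_⟩
        rw [CoherenceBasic.isom_zero hν₂ CoherenceBasic.zspan_zero, classInner_zero_right]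
      · rintro x y ⟨hx, hx'⟩ ⟨hy, hy'⟩
        refine ⟨CoherenceBasic.zspan_add hx hy, ?_⟩
        rw [CoherenceBasic.isom_add hν₂ hx hy, classInner_add_right, hx', hy', add_zero]
      · rintro x ⟨hx, hx'⟩
        refine ⟨CoherenceBasic.zspan_neg hx, ?_⟩
        rw [CoherenceBasic.isom_neg hν₂ hx, classInner_neg_right, hx', neg_zero]
    exact this.2
  have : a ∈ zspan S₁ ∧ classInner (ν₁ a) (ν₂ b) = 0 := by
    refine CoherenceBasic.zspan_induction
      (p := fun a => a ∈ zspan S₁ ∧ classInner (ν₁ a) (ν₂ b) = 0) ?_ ?_ ?_ ?_ ha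
    · exact fun χ hχ => ⟨CoherenceBasic.mem_zspan hχ, key χ hχ b hb⟩
    · refine ⟨CoherenceBasic.zspan_zero, ?_⟩
      rw [CoherenceBasic.isom_zero hν₁ CoherenceBasic.zspan_zero, classInner_zero_left]
    · rintro x y ⟨hx, hx'⟩ ⟨hy, hy'⟩
      refine ⟨CoherenceBasic.zspan_add hx hy, ?_⟩
      rw [CoherenceBasic.isom_add hν₁ hx hy, classInner_add_left, hx', hy', add_zero]
    · rintro x ⟨hx, hx'⟩
      refine ⟨CoherenceBasic.zspan_neg hx, ?_⟩
      rw [CoherenceBasic.isom_neg hν₁ hx, classInner_neg_left, hx', neg_zero]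
  exact this.2

end system

variable {G : Type*} [Group G] [Fintype G] {L : Subgroup G} [Fintype ↥L]
  {K H : Subgroup G} {A A₀ : Set G} {W W₁ W₂ : Subgroup G} {R : G → Subgroup G}
  {μ : (↥W →* ℂˣ) → (↥L → ℂ)} {δ : (↥W →* ℂˣ) → ℤ} {η : (↥W →* ℂˣ) → (G → ℂ)}

/-- (5.7) under the prime Dade hypothesis. -/
theorem prDade_coherent_of_degree (hD : PrimeDadeHyp L K H A A₀ W W₁ W₂ R)
    (hμ : PrimeTIFam L K W W₁ W₂ μ δ) (hη : CyclicTIFam W W₁ W₂ η)
    (hodd : Odd (Nat.card L)) {S : Set (↥L → ℂ)} (hS : S ⊆ seqIndOf L K H ⊥)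
    (hne : S.Nonempty) (hconj : ∀ χ ∈ S, conjFun χ ∈ S)
    (hdeg : ∀ φ ∈ S, ∀ ψ ∈ S, φ 1 = ψ 1) :
    IsCoherent S {1}ᶜ (dadeIsometry A₀ L R) := by
  obtain ⟨Rf, hsys, -, -⟩ := Subcoherent.prDade_subcoherent hD hμ hη hodd hS hne hconj
  exact S1517.result S _ Rf hsys hdeg

end Cfsg.Agent.OddOrderCharacters.PF4b.CohExt2
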